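import Groth.Agent.H25Transversal.Main

/-!
A form whose only singular zero is the origin cuts out a smooth hypersurface; a standard ordinary
quadratic form in every number of variables.
-/

set_option autoImplicit false
set_option linter.style.haveILetI false
universe u

open CategoryTheory CategoryTheory.Limits AlgebraicGeometry LefPen MvPolynomial

namespace Groth.Agent.H25Quad

variable {k : Type u} [Field k] {m : ℕ}

theorem pderiv_dehom (j : Fin (m + 1)) (F : MvPolynomial (Fin (m + 1)) k)
    (l : {l : Fin (m + 1) // l ≠ j}) :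
    pderiv l (H11Proj.ProjSpace.dehom m k j F) = H11Proj.ProjSpace.dehom m k j (pderiv l.1 F) := by
  induction F using MvPolynomial.induction_on with
  | C c => simp [H11Proj.ProjSpace.dehom]
  | add p q hp hq => simp [hp, hq]
  | mul_X p i hp =>
    have hi : pderiv l (H11Proj.ProjSpace.dehom m k j (X i)) =
        H11Proj.ProjSpace.dehom m k j (pderiv l.1 (X i)) := by
      by_cases h : i = j
      · subst h
        simp [H11Proj.ProjSpace.dehom, pderiv_X_of_ne (Ne.symm l.2)]
      · by_cases h' : l.1 = i
        · subst h'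
          simp [H11Proj.ProjSpace.dehom, h]
        · have h'' : l ≠ ⟨i, h⟩ := fun e => h' (congrArg Subtype.val e)
          simp [H11Proj.ProjSpace.dehom, h, pderiv_X_of_ne (Ne.symm h'),
            pderiv_X_of_ne (Ne.symm h'')]
    rw [map_mul, pderiv_mul, pderiv_mul, map_add, map_mul, map_mul, hp, hi]

/-- A form without singular zeros other than the origin defines a smooth hypersurface. -/
theorem smooth_hyp [IsAlgClosed k] {d : ℕ} (G : Form m k d)
    (h : ∀ v : Fin (m + 1) → k, eval v G.1 = 0 → (∀ i, eval v (pderiv i G.1) = 0) → v = 0) :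
    Smooth ((hypIdeal G).subschemeι ≫ CohB1.ProjSpace.toSpec m k) := by
  classical
  have hcomap : secIdeal (𝟙 (CohB1.ProjSpace m k)) {G} = hypIdeal G := by
    rw [secIdeal, iSup_singleton, Scheme.IdealSheafData.comap_id]
  have hkey : SmoothOfRelativeDimension (m - 1)
      (secToSpec (𝟙 (CohB1.ProjSpace m k)) ({G} : Set (Form m k d))) := by
    refine H25Transversal.smoothOfRelativeDimension_sec _ _ fun x => ?_
    obtain ⟨j, hj⟩ : ∃ j, x ∈ chart m k j := by
      have : x ∈ (⨆ j, chart m k j) := by
        rw [show (⨆ j, chart m k j) = ⊤ from H11Proj.ProjSpace.iSup_basicOpen m k]; trivial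
      exact TopologicalSpace.Opens.mem_iSup.mp this
    refine ⟨H25Transversal.chartU m k j, hj, ?_⟩
    let σ := {l : Fin (m + 1) // l ≠ j}
    haveI : IsIso (Proj.awayToSection (CohB1.polyGrading m k) (MvPolynomial.X j)) :=
      inferInstanceAs (IsIso (Proj.basicOpenIsoAway _ _ (X_mem m k j) one_pos).hom)
    let e : MvPolynomial σ k ≃+*
        Γ(CohB1.ProjSpace m k, (H25Transversal.chartU m k j).1) :=
      (RingEquiv.ofBijective _ (H11Proj.ProjSpace.chartMap_bijective m k j)).trans
        (asIso (Proj.awayToSection (CohB1.polyGrading m k) (MvPolynomial.X j))).commRingCatIsoToRingEquiv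
    have he : ∀ F, H25Transversal.polyToSection m k j F = e (H11Proj.ProjSpace.dehom m k j F) :=
      fun F => congrArg (Proj.awayToSection (CohB1.polyGrading m k) (MvPolynomial.X j)).hom
        (RingHom.congr_fun (H11Proj.ProjSpace.chartMap_comp_dehom m k j) F).symm
    have hC : ∀ c, ((Scheme.ΓSpecIso (CommRingCat.of k)).inv ≫
        (𝟙 _ ≫ CohB1.ProjSpace.toSpec m k).appLE ⊤ (chart m k j) (fun _ _ => trivial)).hom c =
          e (C c) := by
      have h1 : Spec.map ((Scheme.ΓSpecIso (CommRingCat.of k)).inv ≫
          (𝟙 _ ≫ CohB1.ProjSpace.toSpec m k).appLE ⊤ (chart m k j) (fun _ _ => trivial)) =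
          Spec.map (CommRingCat.ofHom ((H25Transversal.polyToSection m k j).comp MvPolynomial.C)) := by
        rw [← H25Transversal.fromSpec_toSpec]
        have e2 := IsAffineOpen.SpecMap_appLE_fromSpec (𝟙 _ ≫ CohB1.ProjSpace.toSpec m k)
          (isAffineOpen_top (Spec (CommRingCat.of k))) (H25Transversal.chartU m k j).2
          (fun _ _ => trivial)
        rw [IsAffineOpen.fromSpec_top, Scheme.isoSpec_Spec_inv, ← Spec.map_comp, Category.id_comp]
          at e2
        rw [Category.id_comp]
        exact e2
      intro c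
      refine (RingHom.congr_fun (congrArg CommRingCat.Hom.hom (Spec.map_injective h1)) c).trans ?_
      refine (he (C c)).trans ?_
      simp [H11Proj.ProjSpace.dehom]
      try rfl
    let g := H11Proj.ProjSpace.dehom m k j G.1
    let b := (KaehlerDifferential.mvPolynomialBasis k σ).reindex (finSuccAboveEquiv j).symm
    have hb : ∀ i, b i = KaehlerDifferential.D k _ (X ((finSuccAboveEquiv j) i)) := fun i => by
      simp [b, Module.Basis.reindex_apply, KaehlerDifferential.mvPolynomialBasis_apply]
      rfl
    have hu : Ideal.span ({g} ∪ Set.range fun i =>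
        b.repr (KaehlerDifferential.D k (MvPolynomial σ k) g) i) = ⊤ := by
      by_contra hne
      obtain ⟨p, hp⟩ := H25Transversal.exists_point (k := k) hne
      let v : Fin (m + 1) → k := fun l => if hl : l = j then 1 else p (X ⟨l, hl⟩)
      have hv : ∀ F, p (H11Proj.ProjSpace.dehom m k j F) = eval v F := by
        intro F
        induction F using MvPolynomial.induction_on with
        | C c => simpa [H11Proj.ProjSpace.dehom, ← algebraMap_eq] using p.commutes c
        | add p q hp hq => simp [hp, hq]
        | mul_X q i hq =>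
          rw [map_mul, map_mul, hq, map_mul, eval_X]
          congr 1
          by_cases hi : i = j <;> simp [H11Proj.ProjSpace.dehom, v, hi]
      have h0 : eval v G.1 = 0 := (hv G.1).symm.trans (hp _ (Ideal.subset_span (Or.inl rfl)))
      have hoff : ∀ l : σ, eval v (pderiv l.1 G.1) = 0 := fun l => by
        rw [← hv, ← pderiv_dehom]
        have := hp _ (Ideal.subset_span (Or.inr ⟨(finSuccAboveEquiv j).symm l, rfl⟩))
        simp [b, KaehlerDifferential.mvPolynomialBasis_repr_apply] at this
        exact this
      have hjj : eval v (pderiv j G.1) = 0 := by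
        have heul := congrArg (eval v)
          ((G.2 : G.1.IsHomogeneous d).sum_X_mul_pderiv)
        rw [map_sum, map_nsmul, h0, smul_zero, Finset.sum_eq_single j
          (fun l _ hl => by rw [map_mul, hoff ⟨l, hl⟩, mul_zero]) (by simp)] at heul
        simpa [v] using heul
      have := congrFun (h v h0 fun l => by
        by_cases hl : l = j
        · exact hl ▸ hjj
        · exact hoff ⟨l, hl⟩) j
      simp [v] at this
    have hloc := H25Transversal.locally_standardSmooth b _ hb g hu
    have hP : RingHom.RespectsIso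
        (RingHom.Locally (RingHom.IsStandardSmoothOfRelativeDimension.{u, u} (m - 1))) :=
      RingHom.locally_respectsIso RingHom.isStandardSmoothOfRelativeDimension_respectsIso
    have hI' : (secIdeal (𝟙 (CohB1.ProjSpace m k)) {G}).ideal (H25Transversal.chartU m k j) =
        (Ideal.span {g}).map (e : MvPolynomial σ k →+* _) := by
      rw [hcomap, H25Transversal.hypIdeal_ideal_chart, Ideal.map_span, Set.image_singleton,
        ← H25Transversal.polyToSection_form]
      exact congrArg (fun z => Ideal.span {z}) (he G.1)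
    have h3 := hP.1 _ (Ideal.quotientEquiv (Ideal.span {g}) _ e hI') hloc
    convert h3 using 1
    refine RingHom.ext fun c => ?_
    change Ideal.Quotient.mk _ _ = Ideal.quotientEquiv _ _ e hI' (Ideal.Quotient.mk _ (C c))
    rw [Ideal.quotientEquiv_mk]
    exact congrArg _ (hC c)
  have hs := SmoothOfRelativeDimension.smooth (m - 1)
    (secToSpec (𝟙 (CohB1.ProjSpace m k)) ({G} : Set (Form m k d)))
  change Smooth ((secIdeal (𝟙 (CohB1.ProjSpace m k)) {G}).subschemeι ≫ 𝟙 _ ≫ _) at hs
  rwa [Category.id_comp, hcomap] at hs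

/-- The quadratic form `∑_{i ≤ rev i} X_i X_{rev i}`. -/
noncomputable def q (k : Type u) [Field k] (N : ℕ) : MvPolynomial (Fin N) k :=
  ∑ i : Fin N, if i ≤ i.rev then X i * X i.rev else 0

theorem isHomogeneous_q (N : ℕ) : (q k N).IsHomogeneous 2 :=
  IsHomogeneous.sum _ _ _ fun i _ => by
    split
    · exact (isHomogeneous_X k i).mul (isHomogeneous_X k i.rev)
    · exact isHomogeneous_zero _ _ _

theorem eval_pderiv_q {N : ℕ} (v : Fin N → k) (l : Fin N) :
    eval v (pderiv l (q k N)) = if l = l.rev then 2 * v l else v l.rev := by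
  classical
  have key : ∀ i : Fin N, eval v (pderiv l (if i ≤ i.rev then X i * X i.rev else 0)) =
      (if i = l ∧ i ≤ i.rev then v l.rev else 0) + (if i = l.rev ∧ i ≤ i.rev then v l.rev else 0) := by
    intro i
    split_ifs with h1 h2 h3 h3 <;> (try simp [pderiv_mul]) <;> (try tauto)
    all_goals simp_all [Pi.single_apply, Fin.rev_rev]
    all_goals intro h; exact absurd (by rw [← h, Fin.rev_rev]) h3
  rw [q, map_sum, map_sum, Finset.sum_congr rfl fun i _ => key i, Finset.sum_add_distrib]
  simp only [Finset.sum_ite_eq', Finset.mem_univ, if_true, ite_and, Fin.rev_rev]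
  by_cases hl : l = l.rev
  · rw [if_pos hl, if_pos hl.le, if_pos hl.ge, ← hl]; ring
  · rw [if_neg hl]
    rcases lt_or_gt_of_ne hl with h | h
    · rw [if_pos h.le, if_neg h.not_ge, add_zero]
    · rw [if_neg h.not_ge, if_pos h.le, zero_add]

theorem eq_zero_of_q {N : ℕ} (v : Fin N → k) (h0 : eval v (q k N) = 0)
    (h : ∀ l, eval v (pderiv l (q k N)) = 0) : v = 0 := by
  classical
  have hoff : ∀ l : Fin N, l ≠ l.rev → v l = 0 := fun l hl => by
    have := h l.rev
    rwa [eval_pderiv_q, Fin.rev_rev, if_neg (Ne.symm hl)] at this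
  funext l
  by_cases hl : l = l.rev
  · rw [q, map_sum, Finset.sum_eq_single l] at h0
    · rw [if_pos hl.le, map_mul, eval_X, eval_X, ← hl] at h0
      exact mul_self_eq_zero.mp h0
    · intro i _ hi
      have hne : i ≠ i.rev := fun e => hi (by
        have h1 := congrArg Fin.val hl
        have h2 := congrArg Fin.val e
        simp [Fin.val_rev] at h1 h2
        ext; omega)
      split <;> simp [hoff i hne]
    · simp
  · exact hoff l hl

theorem q_ne_zero {N : ℕ} (hN : 0 < N) : q k N ≠ 0 := fun h => by
  have := congrFun (eq_zero_of_q (fun _ : Fin N => (1 : k)) (by simp [h]) (by simp [h])) ⟨0, hN⟩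
  simp at this

/-- The standard ordinary quadratic form is non-degenerate. -/
theorem nondegQuad_q [IsAlgClosed k] :
    NondegQuad k (⟨q k (m + 1), isHomogeneous_q _⟩ : Form m k 2) :=
  ⟨q_ne_zero m.succ_pos, Or.inr (smooth_hyp _ fun v => eq_zero_of_q v)⟩

end Groth.Agent.H25Quad
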