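import Groth.Agent.H05EGA4.Completion
import Groth.Agent.H05EGA4.FlatPresentation
import Groth.Agent.H02CA.PowerSeries

/-!
Completion of a hypersurface in a regular local algebra with rational residue field.
-/

set_option autoImplicit false
set_option linter.style.haveILetI false
universe u

open IsLocalRing

namespace Groth.Agent.H25Quad

theorem exists_completion_equiv (k : Type u) [Field k] {n : ℕ} (A : Type u) [CommRing A]
    [IsNoetherianRing A] [IsLocalRing A] (v : k →+* A) (hv : ∀ a, ∃ c, v c - a ∈ maximalIdeal A)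
    (hdim : ringKrullDim A = n) (u : Fin n → A) (hu : Ideal.span (Set.range u) = maximalIdeal A)
    (F : MvPolynomial (Fin n) k) (R : Type u) [CommRing R] [IsLocalRing R] (f : A →+* R)
    (hf : Function.Surjective f) (hker : RingHom.ker f = Ideal.span {MvPolynomial.eval₂ v u F}) :
    ∃ e : AdicCompletion (maximalIdeal R) R ≃+*
        (MvPowerSeries (Fin n) k ⧸ Ideal.span {(F : MvPowerSeries (Fin n) k)}),
      ∀ c, e (algebraMap R _ (f (v c))) = Ideal.Quotient.mk _ (MvPowerSeries.C c) := by
  let C := AdicCompletion (maximalIdeal A) A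
  haveI := H05EGA4.isNoetherianRing_adicCompletion A (maximalIdeal A)
  haveI : IsAdicComplete (maximalIdeal C) C := by
    rw [AdicCompletion.maximalIdeal_eq_map]
    exact AdicCompletion.isAdicComplete_self _ (IsNoetherian.noetherian _)
  obtain ⟨ψ, hsurj, hC, hX⟩ := H05EGA4.exists_surjective_mvPowerSeries_of_generators
    ((algebraMap A C).comp v) (fun y => by
      have hy : ∃ a, algebraMap A C a - y ∈ maximalIdeal C := by
        obtain ⟨s, rfl⟩ := AdicCompletion.mk_surjective (maximalIdeal A) A y
        exact ⟨s 1, by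
          rw [AdicCompletion.mem_maximalIdeal_iff_eval_one_eq_zero, AdicCompletion.val_sub_apply,
            sub_eq_zero]
          rfl⟩
      obtain ⟨a, ha⟩ := hy
      obtain ⟨c, hc⟩ := hv a
      refine ⟨c, ?_⟩
      have h2 : algebraMap A C (v c - a) ∈ maximalIdeal C := by
        rw [AdicCompletion.maximalIdeal_eq_map]
        exact Ideal.mem_map_of_mem _ hc
      rw [map_sub] at h2
      simpa using add_mem h2 ha)
    (fun i => algebraMap A C (u i)) (by
      rw [AdicCompletion.maximalIdeal_eq_map]
      exact ((congrArg (Ideal.map (algebraMap A C)) hu.symm).trans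
        ((Ideal.map_span _ _).trans (congrArg Ideal.span (Set.range_comp _ _).symm))).symm)
  haveI := H02CA.PS.isRegularLocalRing_fin (k := k) n
  have hinj : Function.Injective ψ := by
    rw [RingHom.injective_iff_ker_eq_bot, eq_bot_iff]
    intro x hx
    by_contra hx0
    have h1 := ringKrullDim_quotient_succ_le_of_nonZeroDivisor
      (mem_nonZeroDivisors_of_ne_zero hx0 : x ∈ nonZeroDivisors (MvPowerSeries (Fin n) k))
    rw [H02CA.PS.ringKrullDim_eq] at h1
    have h2 : ringKrullDim C ≤ ringKrullDim (MvPowerSeries (Fin n) k ⧸ Ideal.span {x}) :=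
      ringKrullDim_le_of_surjective (Ideal.Quotient.lift (Ideal.span {x}) ψ (fun y hy => by
          obtain ⟨z, rfl⟩ := Ideal.mem_span_singleton'.mp hy
          rw [map_mul, RingHom.mem_ker.mp hx, mul_zero]))
        (Ideal.Quotient.lift_surjective_of_surjective _ _ hsurj)
    rw [H05EGA4.ringKrullDim_adicCompletion, hdim] at h2
    have h3 := le_trans (add_le_add h2 le_rfl) h1
    exact absurd h3 (by
      norm_cast
      exact not_le.mpr (by exact_mod_cast Nat.lt_succ_self n))
  let φ := RingEquiv.ofBijective ψ ⟨hinj, hsurj⟩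
  have hF : ψ (F : MvPowerSeries (Fin n) k) = algebraMap A C (MvPolynomial.eval₂ v u F) := by
    rw [MvPolynomial.eval₂_comp_left]
    change (ψ.comp MvPolynomial.coeToMvPowerSeries.ringHom) F = MvPolynomial.eval₂Hom _ _ F
    congr 1
    refine MvPolynomial.ringHom_ext (fun c => ?_) (fun i => ?_)
    · simp [hC]
    · simp [hX]
  obtain ⟨e₀, he₀⟩ := H05EGA4.exists_completion_quotient_equiv_comm (maximalIdeal A) R f hf
    (maximalIdeal R) (IsLocalRing.map_maximalIdeal_of_surjective _ hf)
  have hI : (RingHom.ker f).map (algebraMap A C) =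
      (Ideal.span {(F : MvPowerSeries (Fin n) k)}).map (φ : MvPowerSeries (Fin n) k →+* C) := by
    rw [hker, Ideal.map_span, Ideal.map_span, Set.image_singleton, Set.image_singleton]
    exact congrArg (fun z => Ideal.span {z}) hF.symm
  let e₁ := Ideal.quotientEquiv (Ideal.span {(F : MvPowerSeries (Fin n) k)}) _ φ hI
  refine ⟨e₀.symm.trans e₁.symm, fun c => ?_⟩
  rw [RingEquiv.trans_apply, RingEquiv.symm_apply_eq]
  rw [← he₀ (v c), RingEquiv.symm_apply_apply, Ideal.quotientEquiv_mk]
  exact congrArg _ (hC c).symm

end Groth.Agent.H25Quad
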